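import Cfsg.Agent.S0026
import Cfsg.Agent.S0027
import Cfsg.Agent.Solv.Nilpotent
import Cfsg.Agent.Solv.PGroupBasic
import Cfsg.Agent.FT.BG3.CFix

/-! Membership in the second Fitting term through two-generated subgroups: definitions. -/

set_option autoImplicit false

namespace Cfsg.Lib.FF2

open Subgroup

variable {G : Type*} [Group G]

/-- normaliser -/
abbrev Nm (D : Subgroup G) : Subgroup G := normalizer (D : Set G)
/-- centraliser -/
abbrev Cn (D : Subgroup G) : Subgroup G := centralizer (D : Set G)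

/-- `x` lies in a normal subgroup `Y` of `H` with a nilpotent normal `p`-complement `K`. -/
def Gd (p : ℕ) (H : Subgroup G) (x : G) : Prop :=
  ∃ K Y : Subgroup G, K ≤ Y ∧ Y ≤ H ∧ H ≤ Nm K ∧ H ≤ Nm Y ∧ Group.IsNilpotent K ∧
    (Nat.card K).Coprime p ∧ x ∈ Y ∧ ∀ y ∈ Y, ∃ n : ℕ, y ^ p ^ n ∈ K

/-- the minimal counterexample -/
structure Hy (p : ℕ) (x : G) : Prop where
  pp : p.Prime
  nf : ∀ N : Subgroup G, N.Normal → Group.IsNilpotent N → N = ⊥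
  ord : orderOf x = p
  gd : ∀ H : Subgroup G, H ≠ ⊤ → x ∈ H → Gd p H x
  two : ∀ y : G, closure {x, y} ≠ ⊤

/-- nilpotent `p'`-groups `D = [D, x] ≠ 1` -/
structure Mb (p : ℕ) (x : G) (D : Subgroup G) : Prop where
  ne : D ≠ ⊥
  nil : Group.IsNilpotent D
  cop : (Nat.card D).Coprime p
  nm : zpowers x ≤ Nm D
  cm : ⁅D, zpowers x⁆ = D

/-- `q`-groups `D = [D, A] ≠ 1` -/
structure Mq (q : ℕ) (A D : Subgroup G) : Prop where
  ne : D ≠ ⊥
  pg : IsPGroup q D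
  nm : A ≤ Nm D
  cm : ⁅D, A⁆ = D

def TIq (q : ℕ) (A : Subgroup G) : Prop := ∀ S T D : Subgroup G, Maximal (Mq q A) S →
  Maximal (Mq q A) T → Mq q A D → D ≤ S → D ≤ T → S = T

/-- conjugate subgroup -/
def cj (g : G) (D : Subgroup G) : Subgroup G := D.map (MulAut.conj g).toMonoidHom

/-- the `q`-part -/
def qp (q : ℕ) (K : Subgroup G) : Subgroup G := closure {g | g ∈ K ∧ ∃ n : ℕ, g ^ q ^ n = 1}
/-- the `q'`-part -/
def rp (q : ℕ) (K : Subgroup G) : Subgroup G := closure {g | g ∈ K ∧ (orderOf g).Coprime q}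

variable {A D E H K Q S T : Subgroup G} {a g h x : G} {p q : ℕ}

theorem mem_cj : a ∈ cj g D ↔ g⁻¹ * a * g ∈ D :=
  ⟨fun ⟨b, hb, e⟩ => by rw [← e]; simpa [mul_assoc] using hb,
    fun k => ⟨_, k, by simp [mul_assoc]⟩⟩

theorem cj_mem (k : a ∈ D) : g * a * g⁻¹ ∈ cj g D := ⟨a, k, rfl⟩

theorem cj_cj : cj g (cj h D) = cj (g * h) D := by
  ext; simp [mem_cj, mul_assoc]

theorem cj_one : cj 1 D = D := by ext; simp [mem_cj]

theorem cj_mono (k : D ≤ E) : cj g D ≤ cj g E := map_mono k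

theorem cj_inv_cj : cj g⁻¹ (cj g D) = D := by rw [cj_cj, inv_mul_cancel, cj_one]

theorem cj_cj_inv : cj g (cj g⁻¹ D) = D := by rw [cj_cj, mul_inv_cancel, cj_one]

theorem cj_le_cj : cj g D ≤ cj g E ↔ D ≤ E :=
  ⟨fun k => by simpa only [cj_inv_cj] using cj_mono (g := g⁻¹) k, cj_mono⟩

theorem cj_inj : cj g D = cj g E ↔ D = E := by simp only [le_antisymm_iff, cj_le_cj]

theorem cj_eq_iff : cj g D = D ↔ g ∈ Nm D := by
  rw [mem_normalizer_iff'', SetLike.ext_iff]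
  exact forall_congr' fun a => by rw [mem_cj]; exact Iff.comm

theorem nm_cj (k : g ∈ Nm D) (ha : a ∈ D) : g * a * g⁻¹ ∈ D := (mem_normalizer_iff.1 k a).1 ha

theorem nm_cj' (k : g ∈ Nm D) (ha : a ∈ D) : g⁻¹ * a * g ∈ D := by
  simpa using nm_cj (inv_mem k) ha

theorem mem_nm [Finite G] (k : ∀ a ∈ D, g * a * g⁻¹ ∈ D) : g ∈ Nm D :=
  mem_normalizer_fintype k

theorem cj_bot : cj g (⊥ : Subgroup G) = ⊥ := map_bot _
theorem cj_top : cj g (⊤ : Subgroup G) = ⊤ := by ext; simp [mem_cj]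
theorem cj_sup : cj g (D ⊔ E) = cj g D ⊔ cj g E := Subgroup.map_sup _ _ _
theorem cj_inf : cj g (D ⊓ E) = cj g D ⊓ cj g E := by ext; simp [mem_cj]
theorem cj_comm : cj g ⁅D, E⁆ = ⁅cj g D, cj g E⁆ := map_commutator _ _ _
theorem cj_zp : cj g (zpowers x) = zpowers (g * x * g⁻¹) := MonoidHom.map_zpowers _ _
theorem cj_card : Nat.card (cj g D) = Nat.card D := card_map_of_injective (MulAut.conj g).injective

theorem cj_nm : cj g (Nm D) = Nm (cj g D) := by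
  ext a
  rw [mem_cj, ← cj_eq_iff, ← cj_eq_iff, ← cj_inj (g := g), cj_cj, cj_cj]
  simp [mul_assoc]

theorem cj_cn : cj g (Cn D) = Cn (cj g D) := by
  ext a
  simp only [mem_cj, mem_centralizer_iff, SetLike.mem_coe]
  refine ⟨fun k b hb => ?_, fun k b hb => ?_⟩
  · have := congrArg (fun t => g * t * g⁻¹) (k _ hb)
    simpa [mul_assoc] using this
  · have := congrArg (fun t => g⁻¹ * t * g) (k (g * b * g⁻¹) (by simpa [mul_assoc] using hb))
    simpa [mul_assoc] using this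

theorem cj_nil (k : Group.IsNilpotent D) : Group.IsNilpotent (cj g D) :=
  Group.nilpotent_of_mulEquiv (D.equivMapOfInjective _ (MulAut.conj g).injective)

theorem cj_pg (k : IsPGroup q D) : IsPGroup q (cj g D) := k.map _

theorem cj_closure2 {y : G} : cj g (closure {x, y}) = closure {g * x * g⁻¹, g * y * g⁻¹} := by
  rw [cj, MonoidHom.map_closure, Set.image_pair]; rfl

theorem Mq.cj (k : Mq q A D) : Mq q (cj g A) (cj g D) :=
  ⟨fun e => k.ne (cj_inj.1 (e.trans cj_bot.symm)), cj_pg k.pg, (cj_mono k.nm).trans_eq cj_nm,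
    by rw [← cj_comm, k.cm]⟩

theorem Mb.cj (k : Mb p x D) : Mb p (g * x * g⁻¹) (cj g D) :=
  ⟨fun e => k.ne (cj_inj.1 (e.trans cj_bot.symm)), cj_nil k.nil, by rw [cj_card]; exact k.cop,
    cj_zp.symm.trans_le ((cj_mono k.nm).trans_eq cj_nm), by rw [← cj_zp, ← cj_comm, k.cm]⟩

theorem mx_cj (k : Maximal (Mb p x) S) : Maximal (Mb p (g * x * g⁻¹)) (cj g S) :=
  ⟨k.1.cj, fun D hD l => by
    have := k.2 (y := cj g⁻¹ D) (by simpa [mul_assoc] using hD.cj (g := g⁻¹))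
      (by rw [← cj_le_cj (g := g), cj_cj_inv]; exact l)
    rwa [← cj_le_cj (g := g), cj_cj_inv] at this⟩

theorem mxq_cj (k : Maximal (Mq q A) S) : Maximal (Mq q (cj g A)) (cj g S) :=
  ⟨k.1.cj, fun D hD l => by
    have := k.2 (y := cj g⁻¹ D) (by simpa only [cj_inv_cj] using hD.cj (g := g⁻¹))
      (by rw [← cj_le_cj (g := g), cj_cj_inv]; exact l)
    rwa [← cj_le_cj (g := g), cj_cj_inv] at this⟩

theorem Gd.cj (k : Gd p H x) : Gd p (cj g H) (g * x * g⁻¹) := by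
  obtain ⟨K, Y, a, b, c, d, e, f, i, j⟩ := k
  refine ⟨FF2.cj g K, FF2.cj g Y, cj_mono a, cj_mono b, (cj_mono c).trans_eq cj_nm,
    (cj_mono d).trans_eq cj_nm, cj_nil e, by rw [cj_card]; exact f, cj_mem i, ?_⟩
  rintro _ ⟨y, hy, rfl⟩
  obtain ⟨n, hn⟩ := j y hy
  exact ⟨n, _, hn, map_pow _ _ _⟩

theorem Hy.cj (k : Hy p x) (g : G) : Hy p (g * x * g⁻¹) where
  pp := k.pp
  nf := k.nf
  ord := ((MulAut.conj g).orderOf_eq x).trans k.ord
  gd H h1 h2 := by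
    have := (k.gd (FF2.cj g⁻¹ H) (fun e => h1 (cj_inj.1 (e.trans cj_top.symm)))
      (mem_cj.2 (by simpa using h2))).cj (g := g)
    rwa [cj_cj_inv] at this
  two y e := k.two (g⁻¹ * y * g) (cj_inj.1 ((by
    rw [cj_closure2, ← e]; simp [mul_assoc] : FF2.cj g _ = ⊤).trans cj_top.symm))

theorem nm_comm (h1 : g ∈ Nm Q) (h2 : g ∈ Nm A) : g ∈ Nm ⁅Q, A⁆ := by
  rw [← cj_eq_iff] at *; rw [cj_comm, h1, h2]

theorem nm_inf (h1 : g ∈ Nm Q) (h2 : g ∈ Nm A) : g ∈ Nm (Q ⊓ A) := by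
  rw [← cj_eq_iff] at *; rw [cj_inf, h1, h2]

theorem nm_sup (h1 : g ∈ Nm Q) (h2 : g ∈ Nm A) : g ∈ Nm (Q ⊔ A) := by
  rw [← cj_eq_iff] at *; rw [cj_sup, h1, h2]

theorem nm_nm (h1 : g ∈ Nm Q) : g ∈ Nm (Nm Q) := le_normalizer h1

theorem nm_cn (h1 : g ∈ Nm Q) : g ∈ Nm (Cn Q) := by
  rw [← cj_eq_iff] at *; rw [cj_cn, h1]

theorem cn_le_nm : Cn D ≤ Nm D := centralizer_le_normalizer _

theorem mem_cn_zp : g ∈ Cn (zpowers x) ↔ Commute x g :=
  ⟨fun k => k x (mem_zpowers x), fun k => by rintro _ ⟨n, rfl⟩; exact (k.zpow_left n).eq⟩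

theorem comm_le (k : A ≤ Nm Q) : ⁅Q, A⁆ ≤ Q := commutator_le.2 fun a ha b hb => by
  rw [commutatorElement_def, mul_assoc, mul_assoc, ← mul_assoc b]
  exact mul_mem ha (nm_cj (k hb) (inv_mem ha))

theorem le_nm_comm : Q ≤ Nm ⁅Q, A⁆ := normalizer_commutator_ge_left _ _

theorem comm_eq_bot : ⁅Q, A⁆ = ⊥ ↔ Q ≤ Cn A := commutator_eq_bot_iff_le_centralizer

theorem qp_le : qp q K ≤ K := (closure_le _).2 fun _ k => k.1
theorem rp_le : rp q K ≤ K := (closure_le _).2 fun _ k => k.1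

theorem cj_qp : cj g (qp q K) = qp q (cj g K) := by
  rw [cj, qp, MonoidHom.map_closure, qp]
  congr 1
  ext a
  constructor
  · rintro ⟨b, ⟨hb, n, e⟩, rfl⟩
    exact ⟨cj_mem hb, n, by rw [← map_pow, e, map_one]⟩
  · rintro ⟨⟨b, hb, rfl⟩, n, e⟩
    exact ⟨b, ⟨hb, n, (MulAut.conj g).injective (by rw [map_pow, map_one]; exact e)⟩, rfl⟩

theorem cj_rp : cj g (rp q K) = rp q (cj g K) := by
  rw [cj, rp, MonoidHom.map_closure, rp]
  congr 1
  ext a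
  constructor
  · rintro ⟨b, ⟨hb, e⟩, rfl⟩
    exact ⟨cj_mem hb, ((MulAut.conj g).orderOf_eq b).symm ▸ e⟩
  · rintro ⟨⟨b, hb, rfl⟩, e⟩
    exact ⟨b, ⟨hb, ((MulAut.conj g).orderOf_eq b) ▸ e⟩, rfl⟩

theorem nm_qp (k : g ∈ Nm K) : g ∈ Nm (qp q K) := by
  rw [← cj_eq_iff] at *; rw [cj_qp, k]

theorem nm_rp (k : g ∈ Nm K) : g ∈ Nm (rp q K) := by
  rw [← cj_eq_iff] at *; rw [cj_rp, k]

end Cfsg.Lib.FF2
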