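import Cfsg.Agent.FF2.Defs

/-! Basic tools. -/

set_option autoImplicit false

namespace Cfsg.Lib.FF2

open Subgroup Cfsg.Lib.Solv

variable {G : Type*} [Group G] [Finite G]
variable {A D E H K L Q S T : Subgroup G} {a g h x : G} {p q : ℕ}

theorem decomp_eq (n : A ≤ Nm Q) (c : (Nat.card A).Coprime (Nat.card Q))
    (s : Group.IsNilpotent Q) : ⁅Q, A⁆ ⊔ (Q ⊓ Cn A) = Q :=
  Cfsg.Agent.S0026.result A Q n c (.inr inferInstance)

theorem stable (n : A ≤ Nm Q) (c : (Nat.card A).Coprime (Nat.card Q))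
    (s : Group.IsNilpotent Q) : ⁅⁅Q, A⁆, A⁆ = ⁅Q, A⁆ :=
  Cfsg.Agent.S0027.result A Q n c (.inr inferInstance)

/-- `Q = [Q, A] C_Q(A)` -/
theorem le_of_decomp (n : A ≤ Nm Q) (c : (Nat.card A).Coprime (Nat.card Q))
    (s : Group.IsNilpotent Q) (h1 : ⁅Q, A⁆ ≤ L) (h2 : ∀ g ∈ Q, g ∈ Cn A → g ∈ L) : Q ≤ L :=
  (decomp_eq n c s).symm.trans_le (sup_le h1 fun g k => h2 g k.1 k.2)

omit [Finite G] in
theorem mem_sup_nm (n : T ≤ Nm S) (k : g ∈ S ⊔ T) : ∃ s ∈ S, ∃ t ∈ T, g = s * t := by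
  have : g ∈ ((S ⊔ T : Subgroup G) : Set G) := k
  rw [coe_mul_of_right_le_normalizer_left _ _ n] at this
  obtain ⟨s, hs, t, ht, e⟩ := this
  exact ⟨s, hs, t, ht, e.symm⟩

theorem decomp (n : A ≤ Nm Q) (c : (Nat.card A).Coprime (Nat.card Q))
    (s : Group.IsNilpotent Q) (k : g ∈ Q) :
    ∃ s ∈ ⁅Q, A⁆, ∃ t ∈ Q, t ∈ Cn A ∧ g = s * t := by
  obtain ⟨s, hs, t, ht, e⟩ := mem_sup_nm (S := ⁅Q, A⁆) (T := Q ⊓ Cn A)
    (inf_le_left.trans le_nm_comm) ((decomp_eq n c s).symm ▸ k)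
  exact ⟨s, hs, t, ht.1, ht.2, e⟩

omit [Finite G] in
theorem nil_of_le (k : Group.IsNilpotent K) (l : D ≤ K) : Group.IsNilpotent D :=
  Group.nilpotent_of_mulEquiv (subgroupOfEquivOfLe l)

omit [Finite G] in
theorem cop_of_le (k : (Nat.card K).Coprime p) (l : D ≤ K) : (Nat.card D).Coprime p :=
  k.coprime_dvd_left (card_dvd_of_le l)

omit [Finite G] in
theorem cop_ord (k : (Nat.card K).Coprime p) (l : a ∈ K) : (orderOf a).Coprime p :=
  k.coprime_dvd_left (K.orderOf_dvd_natCard l)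

theorem pg_cop [Fact q.Prime] (k : IsPGroup q D) (c : q.Coprime p) : (Nat.card D).Coprime p := by
  obtain ⟨n, e⟩ := k.exists_card_eq
  rw [e]; exact c.pow_left n

omit [Finite G] in
theorem pg_pow (k : IsPGroup q D) (l : a ∈ D) : ∃ n : ℕ, a ^ q ^ n = 1 :=
  (k ⟨a, l⟩).imp fun _ e => congrArg Subtype.val e

omit [Finite G] in
theorem pg_of (k : ∀ a ∈ D, ∃ n : ℕ, a ^ q ^ n = 1) : IsPGroup q D :=
  fun a => (k a a.2).imp fun _ e => Subtype.ext e

/-- a subgroup all of whose elements have order prime to `p` -/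
theorem cop_of (hp : p.Prime) (k : ∀ a ∈ D, (orderOf a).Coprime p) : (Nat.card D).Coprime p := by
  have := Fact.mk hp
  refine ((Nat.Prime.coprime_iff_not_dvd hp).2 fun d => ?_).symm
  obtain ⟨a, ha⟩ := exists_prime_orderOf_dvd_card' p d
  have := k a a.2
  rw [Subgroup.orderOf_coe, ha] at this
  exact hp.one_lt.ne' (by simpa using this)

omit [Finite G] in
theorem mem_of_pow (c : (orderOf a).Coprime p) {n : ℕ} (k : a ^ p ^ n ∈ K) : a ∈ K := by
  obtain ⟨m, e⟩ := exists_pow_eq_self_of_coprime (c.symm.pow_left n)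
  rw [← e]; exact pow_mem k m

omit [Finite G] in
theorem eq_one_of_pow (c : (orderOf a).Coprime p) {n : ℕ} (k : a ^ p ^ n = 1) : a = 1 :=
  mem_bot.1 (mem_of_pow c (K := ⊥) (mem_bot.2 k))

theorem mem_qp [Fact q.Prime] (k : Group.IsNilpotent K) :
    a ∈ qp q K ↔ a ∈ K ∧ ∃ n : ℕ, a ^ q ^ n = 1 := by
  refine ⟨fun ha => ⟨qp_le ha, ?_⟩, fun ha => subset_closure ha⟩
  obtain ⟨P⟩ : Nonempty (Sylow q K) := inferInstance
  have : (P : Subgroup K).Normal := inferInstance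
  have : qp q K ≤ (P : Subgroup K).map K.subtype := (closure_le _).2 fun b ⟨hb, n, e⟩ => by
    have hz : IsPGroup q (zpowers (⟨b, hb⟩ : K)) := pg_of (by
      rintro _ ⟨m, rfl⟩
      exact ⟨n, by rw [← zpow_natCast, ← zpow_mul, mul_comm, zpow_mul, zpow_natCast,
        show (⟨b, hb⟩ : K) ^ q ^ n = 1 from Subtype.ext e, one_zpow]⟩)
    have := P.is_maximal' (P.isPGroup'.to_sup_of_normal_left hz) le_sup_left
    exact ⟨_, this ▸ mem_sup_right (mem_zpowers _), rfl⟩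
  exact pg_pow (P.isPGroup'.map _) (this ha)

theorem qp_pg [Fact q.Prime] (k : Group.IsNilpotent K) : IsPGroup q (qp q K) :=
  pg_of fun _ ha => ((mem_qp k).1 ha).2

omit [Finite G] in
theorem le_qp (k : IsPGroup q D) (l : D ≤ K) : D ≤ qp q K :=
  fun _ ha => subset_closure ⟨l ha, pg_pow k ha⟩

omit [Finite G] in
theorem le_rp (k : (Nat.card D).Coprime q) (l : D ≤ K) : D ≤ rp q K :=
  fun _ ha => subset_closure ⟨l ha, cop_ord k ha⟩

omit [Finite G] in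
theorem ord_cop [Fact q.Prime] {n : ℕ} {b : G} (e : a ^ q ^ n = 1) (c : (orderOf b).Coprime q) :
    (orderOf a).Coprime (orderOf b) :=
  (c.symm.pow_left n).coprime_dvd_left (orderOf_dvd_of_pow_eq_one e)

theorem rp_le_cn [Fact q.Prime] (k : Group.IsNilpotent K) : rp q K ≤ Cn (qp q K) :=
  (closure_le _).2 fun _ ⟨hb, c⟩ _ ha => let ⟨h1, _, e⟩ := (mem_qp k).1 ha
    (commute_of_mem_of_coprime_of_isNilpotent k h1 hb (ord_cop e c)).eq

theorem qp_sup_rp [Fact q.Prime] : qp q K ⊔ rp q K = K := by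
  refine le_antisymm (sup_le qp_le rp_le) (le_of_forall_prime_pow_mem fun r hr n a ha e => ?_)
  by_cases c : r = q
  · exact mem_sup_left (subset_closure ⟨ha, n, by rw [← c, ← e, pow_orderOf_eq_one]⟩)
  · exact mem_sup_right (subset_closure
      ⟨ha, e ▸ ((Nat.coprime_primes hr Fact.out).2 c).pow_left n⟩)

theorem rp_cop [Fact q.Prime] (k : Group.IsNilpotent K) : (Nat.card (rp q K)).Coprime q := by
  refine cop_of Fact.out fun a ha => ?_
  have hn := nil_of_le k (rp_le (q := q))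
  by_contra c
  rw [Nat.coprime_comm, (Fact.out : q.Prime).coprime_iff_not_dvd, not_not] at c
  -- the `q`-part of `rp q K` is central, so the transfer to it is a homomorphism
  obtain ⟨P⟩ : Nonempty (Sylow q K) := inferInstance
  obtain ⟨N, hN⟩ : ∃ N : Subgroup K, (P : Subgroup K).IsComplement' N := by
    have : (P : Subgroup K).Normal := inferInstance
    exact exists_right_complement'_of_coprime P.card_coprime_index
  have hc : (Nat.card N).Coprime q := by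
    rw [← hN.symm.index_eq_card]
    exact ((Nat.Prime.coprime_iff_not_dvd Fact.out).2 P.not_dvd_index).symm
  have : rp q K ≤ N.map K.subtype := (closure_le _).2 fun b ⟨hb, e⟩ => by
    refine ⟨⟨b, hb⟩, mem_of_coprime_orderOf_index_of_isNilpotent ?_, rfl⟩
    obtain ⟨n, hn⟩ := P.isPGroup'.exists_card_eq
    rw [hN.index_eq_card, hn, ← Subgroup.orderOf_coe]
    exact e.pow_right n
  have h2 := cop_ord (K := N.map K.subtype) (p := q)
    (by rw [card_map_of_injective K.subtype_injective]; exact hc) (this ha)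
  exact (Fact.out : q.Prime).one_lt.ne' (Nat.Coprime.eq_one_of_dvd h2.symm c)

theorem mem_rp [Fact q.Prime] (k : Group.IsNilpotent K) :
    a ∈ rp q K ↔ a ∈ K ∧ (orderOf a).Coprime q :=
  ⟨fun ha => ⟨rp_le ha, cop_ord (rp_cop k) ha⟩, fun ha => subset_closure ha⟩

omit [Finite G] in
theorem Hy.czp (h : Hy p x) : Nat.card (zpowers x) = p := by rw [Nat.card_zpowers, h.ord]

omit [Finite G] in
theorem Hy.cop (h : Hy p x) (c : (Nat.card Q).Coprime p) :
    (Nat.card (zpowers x)).Coprime (Nat.card Q) := h.czp.symm ▸ c.symm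

omit [Finite G] in
theorem Hy.ne1 (h : Hy p x) : x ≠ 1 := fun e => h.pp.one_lt.ne (by rw [← h.ord, e, orderOf_one])

omit [Finite G] in
theorem Hy.xp (h : Hy p x) : x ^ p = 1 := h.ord ▸ pow_orderOf_eq_one x

omit [Finite G] in
theorem Hy.nm_ne (h : Hy p x) (k : D ≠ ⊥) (n : Group.IsNilpotent D) : Nm D ≠ ⊤ :=
  fun e => k (h.nf D (normalizer_eq_top_iff.1 e) n)

omit [Finite G] in
theorem nil_of_comm (k : ∀ a ∈ D, ∀ b ∈ D, a * b = b * a) : Group.IsNilpotent D :=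
  ⟨1, upperCentralSeries_one_eq_top_iff.2 ⟨⟨fun a b => Subtype.ext (k a a.2 b b.2)⟩⟩⟩

omit [Finite G] in
theorem Hy.cn_ne (h : Hy p x) (k : D ≠ ⊥) : Cn D ≠ ⊤ := fun e => by
  have l : D ≤ center G := fun a ha => mem_center_iff.2 fun g =>
    ((e ▸ mem_top g : g ∈ Cn D) a ha).symm
  exact k (le_bot_iff.1 (l.trans_eq (h.nf _ inferInstance
    (nil_of_comm fun a _ _ hb => mem_center_iff.1 hb a))))

omit [Finite G] in
theorem ne_top_of_le (k : H ≠ ⊤) (l : L ≤ H) : L ≠ ⊤ := fun e => k (top_le_iff.1 (e ▸ l))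

/-- the data of `Gd` with their first consequences -/
structure KY (p : ℕ) (H : Subgroup G) (x : G) (K Y : Subgroup G) : Prop where
  ky : K ≤ Y
  yh : Y ≤ H
  nk : H ≤ Nm K
  ny : H ≤ Nm Y
  nil : Group.IsNilpotent K
  cop : (Nat.card K).Coprime p
  xy : x ∈ Y
  pw : ∀ y ∈ Y, ∃ n : ℕ, y ^ p ^ n ∈ K
  mem : ∀ y ∈ Y, (orderOf y).Coprime p → y ∈ K
  cm : ∀ Q : Subgroup G, Q ≤ H → (Nat.card Q).Coprime p → zpowers x ≤ Nm Q → ⁅Q, zpowers x⁆ ≤ K

theorem Gd.ky (k : Gd p H x) : ∃ K Y, KY p H x K Y := by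
  obtain ⟨K, Y, a, b, c, d, e, f, i, j⟩ := k
  have m : ∀ y ∈ Y, (orderOf y).Coprime p → y ∈ K := fun y hy o =>
    let ⟨_, hn⟩ := j y hy; mem_of_pow o hn
  refine ⟨K, Y, a, b, c, d, e, f, i, j, m, fun Q h1 h2 h3 y hy =>
    m y ?_ (cop_ord h2 (comm_le h3 hy))⟩
  refine (commutator_le.2 fun s hs t ht => ?_ : ⁅Q, zpowers x⁆ ≤ Y) hy
  have ht := zpowers_le.2 i ht
  exact mul_mem (nm_cj (d (h1 hs)) ht) (inv_mem ht)

theorem Hy.ky (h : Hy p x) (k : H ≠ ⊤) (l : x ∈ H) : ∃ K Y, KY p H x K Y := (h.gd H k l).ky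

omit [Finite G] in
theorem KY.le {Y : Subgroup G} (k : KY p H x K Y) (m : Mb p x D) (l : D ≤ H) : D ≤ K :=
  m.cm ▸ k.cm D l m.cop m.nm

omit [Finite G] in
theorem KY.xk {Y : Subgroup G} (k : KY p H x K Y) : zpowers x ≤ Nm K :=
  zpowers_le.2 (k.nk (k.yh k.xy))

theorem Hy.mb_cm (h : Hy p x) (n : Group.IsNilpotent Q) (c : (Nat.card Q).Coprime p)
    (m : zpowers x ≤ Nm Q) (k : ⁅Q, zpowers x⁆ ≠ ⊥) : Mb p x ⁅Q, zpowers x⁆ :=
  ⟨k, nil_of_le n (comm_le m), cop_of_le c (comm_le m), normalizer_commutator_ge_right _ _,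
    stable m (h.cop c) n⟩

theorem mq_cm [Fact q.Prime] (c : (Nat.card A).Coprime q) (n : IsPGroup q Q) (m : A ≤ Nm Q)
    (k : ⁅Q, A⁆ ≠ ⊥) : Mq q A ⁅Q, A⁆ :=
  ⟨k, n.to_le (comm_le m), normalizer_commutator_ge_right _ _,
    stable m (pg_cop n c.symm).symm n.isNilpotent⟩

theorem Mq.mb [Fact q.Prime] (m : Mq q (zpowers x) D) (c : q.Coprime p) : Mb p x D :=
  ⟨m.ne, m.pg.isNilpotent, pg_cop m.pg c, m.nm, m.cm⟩

omit [Finite G] in
theorem Mb.mq (m : Mb p x D) (c : IsPGroup q D) : Mq q (zpowers x) D := ⟨m.ne, c, m.nm, m.cm⟩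

/-- members inside a proper subgroup containing `x` generate a member -/
theorem Hy.sup (h : Hy p x) (k : H ≠ ⊤) (l : x ∈ H) (m1 : Mb p x D) (m2 : Mb p x E) (l1 : D ≤ H)
    (l2 : E ≤ H) : Mb p x (D ⊔ E) := by
  obtain ⟨K, Y, z⟩ := h.ky k l
  have l3 := sup_le (z.le m1 l1) (z.le m2 l2)
  have n : zpowers x ≤ Nm (D ⊔ E) := fun g hg => nm_sup (m1.nm hg) (m2.nm hg)
  exact ⟨fun e => m1.ne (le_bot_iff.1 (le_sup_left.trans_eq e)), nil_of_le z.nil l3,
    cop_of_le z.cop l3, n, le_antisymm (comm_le n) (sup_le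
      (m1.cm.symm.trans_le (commutator_mono le_sup_left le_rfl))
      (m2.cm.symm.trans_le (commutator_mono le_sup_right le_rfl)))⟩

theorem Mb.ex (m : Mb p x D) : ∃ S, D ≤ S ∧ Maximal (Mb p x) S := Finite.exists_le_maximal m

theorem Mq.ex (m : Mq q A D) : ∃ S, D ≤ S ∧ Maximal (Mq q A) S := Finite.exists_le_maximal m

end Cfsg.Lib.FF2
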